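import Groth.Prelude.Def_TwC
import Groth.Agent.AlgSpLib.SchFpqc
import Groth.Agent.FpqcDescent.Affine

/-!
Quasi-compact closed subschemes of twisted constant schemes are finite over the base.
-/

set_option autoImplicit false
set_option backward.isDefEq.respectTransparency.types false
universe u
open CategoryTheory CategoryTheory.Limits AlgebraicGeometry

namespace Groth.Agent.TwConstFinite

/-- The fold map of finitely many copies of an affine scheme is finite. -/
theorem isFinite_fold {T : Scheme.{u}} [IsAffine T] (s : Type u) [Finite s] :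
    IsFinite (Sigma.desc fun _ : s => 𝟙 T) := by
  let R : s → CommRingCat.{u} := fun _ => Γ(T, ⊤)
  let δ : Γ(T, ⊤) ⟶ CommRingCat.of (Π i, R i) := CommRingCat.ofHom (algebraMap Γ(T, ⊤) (s → Γ(T, ⊤)))
  have hδ : IsFinite (Spec.map δ) := by
    rw [IsFinite.SpecMap_iff]
    exact RingHom.finite_algebraMap.2 inferInstance
  let φ : (∐ fun _ : s => T) ⟶ Spec (CommRingCat.of (Π i, R i)) :=
    Limits.Sigma.map (fun _ : s => T.isoSpec.hom) ≫ sigmaSpec R
  have e : (Sigma.desc fun _ : s => 𝟙 T) = φ ≫ Spec.map δ ≫ T.isoSpec.inv := by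
    apply Sigma.hom_ext; intro i
    simp only [φ, Sigma.ι_desc, Category.assoc, Sigma.ι_map_assoc]
    rw [ι_sigmaSpec_assoc, ← Spec.map_comp_assoc]
    have : δ ≫ CommRingCat.ofHom (Pi.evalRingHom (fun x => (R x : Type u)) i) = 𝟙 _ := rfl
    rw [this]
    simp
  rw [e]
  have : IsIso φ := inferInstance
  have := hδ
  infer_instance

/-- A quasi-compact closed subscheme of a constant scheme over an affine base is finite over it. -/
theorem isFinite_of_isClosedImmersion_const {T Z : Scheme.{u}} [IsAffine T] {I : Type u}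
    (z : Z ⟶ ∐ fun _ : I => T) [IsClosedImmersion z]
    [QuasiCompact (z ≫ Sigma.desc fun _ : I => 𝟙 T)] :
    IsFinite (z ≫ Sigma.desc fun _ : I => 𝟙 T) := by
  have : CompactSpace Z := QuasiCompact.compactSpace_of_compactSpace (z ≫ Sigma.desc fun _ : I => 𝟙 T)
  obtain ⟨t, ht⟩ := (isCompact_range z.continuous).elim_finite_subcover
    (fun i : I => ((Sigma.ι (fun _ : I => T) i).opensRange : Set _)) (fun i => ((Sigma.ι (fun _ : I => T) i).opensRange).2)
    (fun x _ => by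
      obtain ⟨i, a, rfl⟩ := (sigmaOpenCover (fun _ : I => T)).exists_eq x
      exact Set.mem_iUnion.2 ⟨i, a, rfl⟩)
  let j : (∐ fun _ : {i // i ∈ t} => T) ⟶ ∐ fun _ : I => T := Sigma.desc fun i => Sigma.ι (fun _ : I => T) i.1
  have : IsOpenImmersion j := isOpenImmersion_sigmaDesc _ _ fun a b hab =>
    Set.disjoint_left.2 fun x ⟨a', ha⟩ ⟨b', hb⟩ =>
      hab (Subtype.ext (congrArg Sigma.fst ((sigmaι_eq_iff _ _ _ _ _).1 (ha.trans hb.symm))))
  have hr : Set.range z ⊆ Set.range j := by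
    intro x hx
    obtain ⟨i, hi, a, rfl⟩ := Set.mem_iUnion₂.1 (ht hx)
    exact ⟨Sigma.ι (fun _ : {i // i ∈ t} => T) ⟨i, hi⟩ a, by
      rw [← Scheme.Hom.comp_apply, Sigma.ι_desc]⟩
  let l := IsOpenImmersion.lift j z hr
  have hl : l ≫ j = z := IsOpenImmersion.lift_fac _ _ _
  have : IsClosedImmersion (l ≫ j) := by rw [hl]; infer_instance
  have : IsClosedImmersion l := IsClosedImmersion.of_comp l j
  have e : z ≫ (Sigma.desc fun _ : I => 𝟙 T) = l ≫ Sigma.desc fun _ : {i // i ∈ t} => 𝟙 T := by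
    rw [← hl, Category.assoc]
    congr 1
    apply Sigma.hom_ext; intro i
    simp [j]
  rw [e]
  have := isFinite_fold (T := T) {i // i ∈ t}
  infer_instance

/-- The base change of a constant scheme along an open immersion is constant. -/
theorem exists_iso_of_bc_iso {S U A : Scheme.{u}} (R : Over S) (k : U ⟶ S) {I : Type u}
    (φ : Red.bc k R ≅ TwC.const U I) (e : A ⟶ U) [IsOpenImmersion e] :
    ∃ ψ : (∐ fun _ : I => A) ⟶ pullback R.hom (e ≫ k),
      IsIso ψ ∧ ψ ≫ pullback.snd R.hom (e ≫ k) = Sigma.desc fun _ : I => 𝟙 A := by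
  let p : pullback R.hom (e ≫ k) ⟶ pullback R.hom k :=
    pullback.map _ _ _ _ (𝟙 _) e (𝟙 _) (by simp) (by simp)
  have : IsOpenImmersion p :=
    MorphismProperty.pullbackMap (P := @IsOpenImmersion) (inferInstanceAs (IsOpenImmersion (𝟙 _)))
      (inferInstanceAs (IsOpenImmersion e)) (by simp) rfl
  let ψ₀ : pullback R.hom k ≅ ∐ fun _ : I => U := (Over.forget U).mapIso φ
  have hψ : ψ₀.hom ≫ (Sigma.desc fun _ : I => 𝟙 U) = pullback.snd R.hom k := Over.w φ.hom
  have hψi : ψ₀.inv ≫ pullback.snd R.hom k = Sigma.desc fun _ : I => 𝟙 U := Over.w φ.inv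
  let σ (i : I) : A ⟶ pullback R.hom (e ≫ k) :=
    pullback.lift (e ≫ Sigma.ι (fun _ : I => U) i ≫ ψ₀.inv ≫ pullback.fst R.hom k) (𝟙 A) (by
      simp only [Category.assoc, pullback.condition]
      rw [reassoc_of% hψi, Sigma.ι_desc_assoc]
      simp)
  have hσp : ∀ i, σ i ≫ p ≫ ψ₀.hom = e ≫ Sigma.ι (fun _ : I => U) i := fun i => by
    rw [← Category.assoc, ← Iso.eq_comp_inv]
    apply pullback.hom_ext
    · simp only [σ, p, pullback.map, Category.assoc]
      erw [pullback.lift_fst, pullback.lift_fst_assoc]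
      simp
    · simp only [σ, p, pullback.map, Category.assoc, hψi]
      erw [pullback.lift_snd, pullback.lift_snd_assoc]
      simp
  have hσo : ∀ i, IsOpenImmersion (σ i) := fun i => by
    have : IsOpenImmersion (σ i ≫ p ≫ ψ₀.hom) := by rw [hσp]; infer_instance
    exact IsOpenImmersion.of_comp (σ i) (p ≫ ψ₀.hom)
  have : IsOpenImmersion (Sigma.desc σ) := isOpenImmersion_sigmaDesc _ _ fun i i' hii' =>
    Set.disjoint_left.2 fun x ⟨a, ha⟩ ⟨b, hb⟩ => by
      have h1 := congrArg (p ≫ ψ₀.hom) (ha.trans hb.symm)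
      rw [← Scheme.Hom.comp_apply, ← Scheme.Hom.comp_apply, hσp, hσp] at h1
      exact hii' (congrArg Sigma.fst ((sigmaι_eq_iff _ _ _ _ _).1 h1))
  have : Surjective (Sigma.desc σ) := ⟨fun x => by
    obtain ⟨i, u, hu⟩ := (sigmaOpenCover (fun _ : I => U)).exists_eq ((p ≫ ψ₀.hom) x)
    replace hu : Sigma.ι (fun _ : I => U) i u = (p ≫ ψ₀.hom) x := hu
    have hu' : u = e (pullback.snd R.hom (e ≫ k) x) := by
      have h2 := congrArg (Sigma.desc fun _ : I => 𝟙 U) hu
      rw [← Scheme.Hom.comp_apply, Sigma.ι_desc, ← Scheme.Hom.comp_apply, Category.assoc, hψ] at h2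
      have hp : p ≫ pullback.snd R.hom k = pullback.snd R.hom (e ≫ k) ≫ e := pullback.lift_snd _ _ _
      rw [hp] at h2
      simp at h2
      exact h2
    refine ⟨Sigma.ι (fun _ : I => A) i (pullback.snd R.hom (e ≫ k) x), ?_⟩
    rw [← Scheme.Hom.comp_apply, Sigma.ι_desc]
    refine (p ≫ ψ₀.hom).isOpenEmbedding.injective ?_
    rw [← Scheme.Hom.comp_apply, hσp, ← hu, hu']
    rfl⟩
  refine ⟨Sigma.desc σ, (isIso_iff_isOpenImmersion_and_surjective _).2 ⟨inferInstance, inferInstance⟩, ?_⟩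
  apply Sigma.hom_ext; intro i
  rw [Sigma.ι_desc_assoc, Sigma.ι_desc]
  exact pullback.lift_snd _ _ _

/-- A quasi-compact closed subscheme of a twisted constant scheme is finite over the base. -/
theorem isFinite_comp {S : Scheme.{u}} (R : Over S) (hR : TwC.IsTwConst TwC.Topology.fpqc R)
    {Z : Scheme.{u}} (z : Z ⟶ R.left) [IsClosedImmersion z] [QuasiCompact (z ≫ R.hom)] :
    IsFinite (z ≫ R.hom) := by
  classical
  obtain ⟨S', f, hf, -, hW, hU⟩ := hR
  have := Groth.Agent.FpqcDescent.isFinite_descendsAlong.{u}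
  refine Groth.Agent.AlgSpLib.of_fpqc_local (z ≫ R.hom) fun V hV => ?_
  obtain ⟨W, hWc, hWV⟩ := hW V hV
  choose U hU₁ I hI using hU
  have hA : ∀ s : S', s ∈ W → ∃ A : S'.Opens, IsAffineOpen A ∧ s ∈ A ∧ A ≤ W ⊓ U s := fun s hs => by
    obtain ⟨_, ⟨A, hA, rfl⟩, hsA, hAle⟩ := (S'.isBasis_affineOpens).exists_subset_of_mem_open
      (show s ∈ ((W ⊓ U s : S'.Opens) : Set S') from ⟨hs, hU₁ s⟩) (W ⊓ U s).2
    exact ⟨A, hA, hsA, hAle⟩
  choose A hAaff hAmem hAle using hA
  obtain ⟨t, ht⟩ := hWc.elim_finite_subcover (fun x : (W : Set S') => (A x.1 x.2 : Set S'))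
    (fun x => (A x.1 x.2).2) (fun x hx => Set.mem_iUnion.2 ⟨⟨x, hx⟩, hAmem x hx⟩)
  have hle : ∀ x : (W : Set S'), A x.1 x.2 ≤ f ⁻¹ᵁ V := fun x a ha => by
    have : f.base a ∈ (V : Set S) := hWV ▸ ⟨a, (hAle x.1 x.2 ha).1, rfl⟩
    exact this
  refine ⟨t.card, fun j => (A (t.equivFin.symm j).1.1 (t.equivFin.symm j).1.2).toScheme,
    fun j => S'.homOfLE (hle _) ≫ f ∣_ V, fun j => hAaff _ _, fun j => inferInstance, fun v => ?_, fun j => ?_⟩
  · obtain ⟨w, hw, hwv⟩ : V.ι v ∈ f.base '' (W : Set S') := by rw [hWV]; exact v.2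
    obtain ⟨x, hx, hwx⟩ := Set.mem_iUnion₂.1 (ht hw)
    refine ⟨t.equivFin ⟨x, hx⟩, ⟨w, ?_⟩, V.ι.isOpenEmbedding.injective ?_⟩
    · rw [Equiv.symm_apply_apply]; exact hwx
    rw [← Scheme.Hom.comp_apply]
    simp only [Category.assoc, morphismRestrict_ι, Scheme.homOfLE_ι_assoc]
    exact hwv
  · set x := (t.equivFin.symm j).1
    have hk : (S'.homOfLE (hle x) ≫ f ∣_ V) ≫ V.ι =
        S'.homOfLE (le_trans (hAle x.1 x.2) inf_le_right) ≫ (U x.1).ι ≫ f := by simp
    have : IsAffine (A x.1 x.2).toScheme := hAaff _ _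
    obtain ⟨ψ, hψ, hψs⟩ := exists_iso_of_bc_iso R ((U x.1).ι ≫ f) (hI x.1).some
      (S'.homOfLE (le_trans (hAle x.1 x.2) inf_le_right))
    change IsFinite (pullback.snd (z ≫ R.hom) _)
    rw [hk]
    generalize S'.homOfLE (le_trans (hAle x.1 x.2) inf_le_right) ≫ (U x.1).ι ≫ f = k at ψ hψ hψs ⊢
    let z' : pullback (z ≫ R.hom) k ⟶ pullback R.hom k :=
      pullback.map _ _ _ _ z (𝟙 _) (𝟙 _) (by simp) (by simp)
    have : IsClosedImmersion z' :=
      MorphismProperty.pullbackMap (P := @IsClosedImmersion) (inferInstanceAs (IsClosedImmersion z))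
        (inferInstanceAs (IsClosedImmersion (𝟙 _))) rfl (by simp)
    have e : (z' ≫ inv ψ) ≫ (Sigma.desc fun _ => 𝟙 _) = pullback.snd (z ≫ R.hom) k := by
      rw [Category.assoc, ← hψs, IsIso.inv_hom_id_assoc]
      simp only [z', pullback.map]
      exact (pullback.lift_snd _ _ _).trans (Category.comp_id _)
    rw [← e]
    have : QuasiCompact ((z' ≫ inv ψ) ≫ Sigma.desc fun _ => 𝟙 _) := by rw [e]; infer_instance
    exact isFinite_of_isClosedImmersion_const (z' ≫ inv ψ)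

end Groth.Agent.TwConstFinite
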